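import Mathlib

/-! Binary forms: dimension of the space of forms of degree `n`. -/

namespace Groth.Agent.BinFormH28

open MvPolynomial

variable (K : Type*) [Field K]

/-- exponent vectors of degree `n` -/
noncomputable def expEquiv (n : ℕ) : Fin (n + 1) ≃ {d : Fin 2 →₀ ℕ // d ∈ {d : Fin 2 →₀ ℕ | d 0 + d 1 = n}} where
  toFun i := ⟨Finsupp.single 0 (i : ℕ) + Finsupp.single 1 (n - i), by
    have := i.isLt; simp; omega⟩
  invFun d := ⟨d.1 0, by have : d.1 0 + d.1 1 = n := d.2; omega⟩
  left_inv i := by ext; simp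
  right_inv d := by
    have h : d.1 0 + d.1 1 = n := d.2
    apply Subtype.ext
    ext i; fin_cases i <;> simp <;> omega

lemma homogeneousSubmodule_eq (n : ℕ) :
    homogeneousSubmodule (Fin 2) K n = restrictSupport K {d : Fin 2 →₀ ℕ | d 0 + d 1 = n} := by
  ext f
  rw [mem_homogeneousSubmodule, restrictSupport, AddMonoidAlgebra.mem_supported]
  constructor
  · intro h d hd
    have := h (mem_support_iff.1 hd)
    simpa [Finsupp.weight_apply, Finsupp.sum_fintype] using this
  · intro h d hd
    have := h (mem_support_iff.2 hd)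
    simpa [Finsupp.weight_apply, Finsupp.sum_fintype] using this

theorem finrank_forms (n : ℕ) : Module.finrank K (homogeneousSubmodule (Fin 2) K n) = n + 1 := by
  rw [homogeneousSubmodule_eq, Module.finrank_eq_card_basis ((basisRestrictSupport K _).reindex (expEquiv n).symm)]
  simp

theorem finite_forms (n : ℕ) : Module.Finite K (homogeneousSubmodule (Fin 2) K n) := by
  rw [homogeneousSubmodule_eq]
  exact Module.Finite.of_basis ((basisRestrictSupport K _).reindex (expEquiv n).symm)

/-- multiplication of forms -/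
noncomputable def mulForms (a b n : ℕ) (h : a + b = n) : homogeneousSubmodule (Fin 2) K a →ₗ[K]
    homogeneousSubmodule (Fin 2) K b →ₗ[K] homogeneousSubmodule (Fin 2) K n :=
  LinearMap.mk₂ K (fun g f => ⟨g.1 * f.1, h ▸ IsHomogeneous.mul g.2 f.2⟩)
    (fun _ _ _ => Subtype.ext (add_mul _ _ _)) (fun _ _ _ => Subtype.ext (smul_mul_assoc _ _ _))
    (fun _ _ _ => Subtype.ext (mul_add _ _ _)) (fun _ _ _ => Subtype.ext (mul_smul_comm _ _ _))

@[simp] lemma mulForms_apply {a b n : ℕ} (h : a + b = n) (g : homogeneousSubmodule (Fin 2) K a)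
    (f : homogeneousSubmodule (Fin 2) K b) : (mulForms K a b n h g f : MvPolynomial (Fin 2) K) = g.1 * f.1 := rfl

end Groth.Agent.BinFormH28
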